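import Mathlib
import Cfsg.Agent.Lib.Helper6.A7.Defs

/-!
# S0984, package (Ia): a common fixed vector from character sums

For a subgroup `H` of a finite group, `∑_{h ∈ H} χ(h) = |H| · dim Fix(H)`.  So the hypothesis
`|T| ∑_S χ = |S| ∑_T χ` with `T ≤ S` says `Fix(S) = Fix(T)`, and `∑_M χ ≠ 0` gives a nonzero
vector fixed by `M`, hence by `T ≤ M`, hence by `S`.
-/

set_option autoImplicit false

namespace Cfsg.Agent.Lib.Helper97.A7

universe u

open Representation

/-- `∑_{h ∈ H} χ(h) = |H| · dim Fix(H)` -/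
theorem sum_char_subgroup {G : Type u} [Group G] [Finite G] {n : ℕ}
    (ρ : Representation ℂ G (Fin n → ℂ)) (H : Subgroup G) :
    ∑ᶠ h : H, ρ.character (h : G) =
      (Nat.card H : ℂ) * (Module.finrank ℂ (invariants (ρ.comp H.subtype)) : ℂ) := by
  classical
  letI : Fintype H := Fintype.ofFinite H
  have hc0 : (Fintype.card H : ℂ) ≠ 0 := Nat.cast_ne_zero.mpr Fintype.card_ne_zero
  letI : Invertible (Fintype.card H : ℂ) := invertibleOfNonzero hc0
  have htr := (isProj_averageMap (ρ.comp H.subtype)).trace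
  rw [finsum_eq_sum_of_fintype, ← htr, Nat.card_eq_fintype_card]
  simp only [averageMap, GroupAlgebra.average, map_smul, map_sum, asAlgebraHom_of,
    MonoidHom.comp_apply, Subgroup.coe_subtype, character]
  rw [invOf_eq_inv, smul_eq_mul, ← mul_assoc, mul_inv_cancel₀ hc0, one_mul]

theorem lemFix : Cfsg.Agent.Lib.Helper6.A7.LemFix.{u} := by
  intro G _ _ n ρ T S M hTS hTM hsum hM
  have hT := sum_char_subgroup ρ T
  have hS := sum_char_subgroup ρ S
  have hMs := sum_char_subgroup ρ M
  have hT0 : (Nat.card T : ℂ) ≠ 0 := Nat.cast_ne_zero.mpr Nat.card_pos.ne'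
  have hS0 : (Nat.card S : ℂ) ≠ 0 := Nat.cast_ne_zero.mpr Nat.card_pos.ne'
  -- `dim Fix(S) = dim Fix(T)`
  have hdim : Module.finrank ℂ (invariants (ρ.comp S.subtype)) =
      Module.finrank ℂ (invariants (ρ.comp T.subtype)) := by
    rw [hT, hS] at hsum
    have h1 : ((Module.finrank ℂ (invariants (ρ.comp S.subtype)) : ℕ) : ℂ) =
        (Module.finrank ℂ (invariants (ρ.comp T.subtype)) : ℂ) := by
      have h2 : (Nat.card T : ℂ) * (Nat.card S : ℂ) *
          (Module.finrank ℂ (invariants (ρ.comp S.subtype)) : ℂ) =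
          (Nat.card T : ℂ) * (Nat.card S : ℂ) *
          (Module.finrank ℂ (invariants (ρ.comp T.subtype)) : ℂ) := by
        linear_combination hsum
      exact mul_left_cancel₀ (mul_ne_zero hT0 hS0) h2
    exact_mod_cast h1
  have hle : invariants (ρ.comp S.subtype) ≤ invariants (ρ.comp T.subtype) := by
    intro v hv t
    exact hv ⟨(t : G), hTS t.2⟩
  have heq : invariants (ρ.comp S.subtype) = invariants (ρ.comp T.subtype) :=
    Submodule.eq_of_le_of_finrank_eq hle hdim
  -- a nonzero vector fixed by `M`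
  have hMne : invariants (ρ.comp M.subtype) ≠ ⊥ := by
    intro h
    apply hM
    rw [hMs, h, finrank_bot]
    simp
  obtain ⟨v, hvM, hv0⟩ := Submodule.exists_mem_ne_zero_of_ne_bot hMne
  have hvT : v ∈ invariants (ρ.comp T.subtype) := by
    intro t
    exact hvM ⟨(t : G), hTM t.2⟩
  rw [← heq] at hvT
  exact ⟨v, hv0, fun g hg => hvM ⟨g, hg⟩, fun g hg => hvT ⟨g, hg⟩⟩

end Cfsg.Agent.Lib.Helper97.A7
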