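import Mathlib
import Cfsg.Agent.Lib.Helper6.A7.Defs

/-!
# S0984, package (Ib): the stabilizer of a nonzero vector in an irreducible representation of
degree `≠ 1` is a proper subgroup
-/

set_option autoImplicit false

namespace Cfsg.Agent.Lib.Helper97.A7

universe u

theorem lemStab : Cfsg.Agent.Lib.Helper6.A7.LemStab.{u} := by
  intro G _ _ n ρ hirr hn v hv
  refine ⟨{ carrier := {g | ρ g v = v}
            mul_mem' := ?_
            one_mem' := ?_
            inv_mem' := ?_ }, ?_, fun g => Iff.rfl⟩
  · intro a b ha hb
    have ha' : ρ a v = v := ha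
    have hb' : ρ b v = v := hb
    show ρ (a * b) v = v
    rw [map_mul, Module.End.mul_apply, hb', ha']
  · show ρ 1 v = v
    rw [map_one, Module.End.one_apply]
  · intro a ha
    have ha' : ρ a v = v := ha
    show ρ a⁻¹ v = v
    have h1 : ρ a⁻¹ (ρ a v) = v := by
      rw [← Module.End.mul_apply, ← map_mul, inv_mul_cancel, map_one, Module.End.one_apply]
    rw [ha'] at h1
    exact h1
  · intro htop
    have hfix : ∀ g : G, ρ g v = v := fun g => by
      have h1 : g ∈ (⊤ : Subgroup G) := Subgroup.mem_top g
      rw [← htop] at h1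
      exact h1
    let W : Subrepresentation ρ := ⟨Submodule.span ℂ {v}, by
      intro g x hx
      rw [Submodule.mem_span_singleton] at hx ⊢
      obtain ⟨c, rfl⟩ := hx
      exact ⟨c, by rw [map_smul, hfix g]⟩⟩
    haveI := hirr
    rcases eq_bot_or_eq_top W with h | h
    · have hvW : v ∈ W.toSubmodule := Submodule.mem_span_singleton_self v
      have h1 : W.toSubmodule = ⊥ := congrArg Subrepresentation.toSubmodule h
      rw [h1] at hvW
      exact hv ((Submodule.mem_bot ℂ).mp hvW)
    · have h1 : Submodule.span ℂ {v} = (⊤ : Submodule ℂ (Fin n → ℂ)) :=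
        congrArg Subrepresentation.toSubmodule h
      have h2 : Module.finrank ℂ (Submodule.span ℂ {v}) = 1 := finrank_span_singleton hv
      rw [h1, finrank_top, Module.finrank_fin_fun] at h2
      exact hn h2

end Cfsg.Agent.Lib.Helper97.A7
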